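import Mathlib

/-!
Minimal degree of primitive permutation groups: Babai's distinguishing sets in the uniprimitive
case and the averaging argument in the doubly transitive case.
-/

set_option autoImplicit false

namespace Cfsg.Agent.MinimalDegree

open Finset

variable (G : Type*) {Ω : Type*} [Group G] [MulAction G Ω]

/-- the two ordered pairs lie in one orbital -/
def SameOrbital (a b c d : Ω) : Prop := ∃ h : G, h • a = c ∧ h • b = d

variable {G}

theorem so_refl (a b : Ω) : SameOrbital G a b a b := ⟨1, one_smul _ _, one_smul _ _⟩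

theorem so_symm {a b c d : Ω} (h : SameOrbital G a b c d) : SameOrbital G c d a b := by
  obtain ⟨x, rfl, rfl⟩ := h
  exact ⟨x⁻¹, inv_smul_smul x a, inv_smul_smul x b⟩

theorem so_trans {a b c d e f : Ω} (h : SameOrbital G a b c d) (h' : SameOrbital G c d e f) :
    SameOrbital G a b e f := by
  obtain ⟨x, rfl, rfl⟩ := h
  obtain ⟨y, rfl, rfl⟩ := h'
  exact ⟨y * x, mul_smul y x a, mul_smul y x b⟩

theorem so_swap {a b c d : Ω} (h : SameOrbital G a b c d) : SameOrbital G b a d c := by
  obtain ⟨x, h1, h2⟩ := h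
  exact ⟨x, h2, h1⟩

theorem so_smul (g : G) (a b : Ω) : SameOrbital G a b (g • a) (g • b) := ⟨g, rfl, rfl⟩

theorem so_smul_iff (g : G) {a b x y : Ω} :
    SameOrbital G a b (g • x) (g • y) ↔ SameOrbital G a b x y :=
  ⟨fun h => so_trans h (so_symm (so_smul g x y)), fun h => so_trans h (so_smul g x y)⟩

variable (G)

/-- the orbital graph of a pair, made undirected -/
def ograph (a₀ b₀ : Ω) : SimpleGraph Ω where
  Adj x y := x ≠ y ∧ (SameOrbital G a₀ b₀ x y ∨ SameOrbital G a₀ b₀ y x)
  symm := ⟨fun _ _ h => ⟨h.1.symm, h.2.symm⟩⟩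
  loopless := ⟨fun _ h => h.1 rfl⟩

variable {G}

theorem ograph_adj_smul (a₀ b₀ : Ω) (g : G) {x y : Ω} (h : (ograph G a₀ b₀).Adj x y) :
    (ograph G a₀ b₀).Adj (g • x) (g • y) :=
  ⟨fun e => h.1 (MulAction.injective g e),
    h.2.imp (so_smul_iff g).mpr (so_smul_iff g).mpr⟩

def ographHom (a₀ b₀ : Ω) (g : G) : ograph G a₀ b₀ →g ograph G a₀ b₀ where
  toFun x := g • x
  map_rel' := ograph_adj_smul a₀ b₀ g

theorem ograph_connected [MulAction.IsPreprimitive G Ω] {a₀ b₀ : Ω} (hab : a₀ ≠ b₀) :
    (ograph G a₀ b₀).Connected := by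
  haveI : Nonempty Ω := ⟨a₀⟩
  set Γ := ograph G a₀ b₀
  set B : Set Ω := {x | Γ.Reachable a₀ x}
  have key : ∀ (g : G) {x y : Ω}, Γ.Reachable x y → Γ.Reachable (g • x) (g • y) :=
    fun g x y h => h.map (ographHom a₀ b₀ g)
  have hB : MulAction.IsBlock G B := by
    intro g₁ g₂ hne
    rw [Set.disjoint_left]
    intro z h1 h2
    apply hne
    rw [Set.mem_smul_set] at h1 h2
    obtain ⟨x, hx, hxz⟩ := h1
    obtain ⟨y, hy, hyz⟩ := h2
    have hz1 : Γ.Reachable (g₁ • a₀) z := hxz ▸ key g₁ hx
    have hz2 : Γ.Reachable (g₂ • a₀) z := hyz ▸ key g₂ hy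
    have h12 : Γ.Reachable (g₁ • a₀) (g₂ • a₀) := hz1.trans hz2.symm
    ext w
    rw [Set.mem_smul_set_iff_inv_smul_mem, Set.mem_smul_set_iff_inv_smul_mem]
    have hconv : ∀ (g : G) (w : Ω), g⁻¹ • w ∈ B ↔ Γ.Reachable (g • a₀) w := by
      intro g w
      constructor
      · intro h
        have := key g (h : Γ.Reachable a₀ (g⁻¹ • w))
        rwa [smul_inv_smul] at this
      · intro h
        have := key g⁻¹ h
        rwa [inv_smul_smul] at this
    rw [hconv, hconv]
    exact ⟨fun h => h12.symm.trans h, fun h => h12.trans h⟩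
  have hmem : b₀ ∈ B := SimpleGraph.Adj.reachable ⟨hab, Or.inl (so_refl a₀ b₀)⟩
  rcases MulAction.IsPreprimitive.isTrivialBlock_of_isBlock hB with h | h
  · exact absurd (h (SimpleGraph.Reachable.refl a₀ : a₀ ∈ B) hmem) hab
  · refine SimpleGraph.Connected.mk fun x y => ?_
    have hx : x ∈ B := by rw [h]; trivial
    have hy : y ∈ B := by rw [h]; trivial
    exact (SimpleGraph.Reachable.symm hx).trans hy

theorem ograph_dist_smul [MulAction.IsPreprimitive G Ω] {a₀ b₀ : Ω} (hab : a₀ ≠ b₀) (g : G)
    (x y : Ω) : (ograph G a₀ b₀).dist (g • x) (g • y) = (ograph G a₀ b₀).dist x y := by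
  have hc := ograph_connected (G := G) hab
  have hle : ∀ (g : G) (x y : Ω),
      (ograph G a₀ b₀).dist (g • x) (g • y) ≤ (ograph G a₀ b₀).dist x y := by
    intro g x y
    obtain ⟨p, hp⟩ := hc.exists_walk_length_eq_dist x y
    rw [← hp]
    have := SimpleGraph.dist_le (p.map (ographHom a₀ b₀ g))
    rw [SimpleGraph.Walk.length_map] at this
    exact this
  refine le_antisymm (hle g x y) ?_
  calc (ograph G a₀ b₀).dist x y
      = (ograph G a₀ b₀).dist (g⁻¹ • g • x) (g⁻¹ • g • y) := by
        rw [inv_smul_smul, inv_smul_smul]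
    _ ≤ _ := hle g⁻¹ _ _

variable (G) [Fintype Ω]

open scoped Classical in
/-- points whose orbitals distinguish `a` from `b` -/
noncomputable def dset (a b : Ω) : Finset Ω :=
  Finset.univ.filter fun z => ¬ SameOrbital G a z b z

variable {G}

theorem mem_dset {a b z : Ω} : z ∈ dset G a b ↔ ¬ SameOrbital G a z b z := by
  simp [dset]

theorem dset_comm (a b : Ω) : dset G a b = dset G b a := by
  ext z
  rw [mem_dset, mem_dset]
  exact ⟨fun h h' => h (so_symm h'), fun h h' => h (so_symm h')⟩

theorem dset_triangle [DecidableEq Ω] (a b c : Ω) : dset G a c ⊆ dset G a b ∪ dset G b c := by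
  intro z hz
  rw [Finset.mem_union, mem_dset, mem_dset]
  rw [mem_dset] at hz
  by_contra h
  push_neg at h
  exact hz (so_trans h.1 h.2)

theorem card_dset_smul (g : G) (a b : Ω) :
    (dset G (g • a) (g • b)).card = (dset G a b).card := by
  symm
  refine Finset.card_bij (fun z _ => g • z) ?_ (fun x _ y _ h => MulAction.injective g h) ?_
  · intro z hz
    rw [mem_dset] at hz ⊢
    intro h
    exact hz (so_trans (so_trans (so_smul g a z) h) (so_symm (so_smul g b z)))
  · intro w hw
    refine ⟨g⁻¹ • w, ?_, smul_inv_smul g w⟩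
    rw [mem_dset] at hw ⊢
    intro h
    apply hw
    have := so_trans (so_symm (so_smul g a (g⁻¹ • w))) (so_trans h (so_smul g b (g⁻¹ • w)))
    rwa [smul_inv_smul] at this

theorem card_dset_eq_of_so {a b x y : Ω} (h : SameOrbital G a b x y) :
    (dset G x y).card = (dset G a b).card := by
  obtain ⟨g, rfl, rfl⟩ := h
  exact card_dset_smul g a b

theorem card_dset_adj {a₀ b₀ x y : Ω} (h : (ograph G a₀ b₀).Adj x y) :
    (dset G x y).card = (dset G a₀ b₀).card := by
  rcases h.2 with h' | h'
  · exact card_dset_eq_of_so h'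
  · rw [dset_comm]
    exact card_dset_eq_of_so h'

theorem card_dset_le_length {a₀ b₀ : Ω} : ∀ {x y : Ω} (p : (ograph G a₀ b₀).Walk x y),
    (dset G x y).card ≤ p.length * (dset G a₀ b₀).card := by
  classical
  intro x y p
  induction p with
  | nil =>
    rename_i u
    have : dset G u u = ∅ := by
      ext z
      simp [mem_dset, so_refl]
    simp [this]
  | cons hadj q ih =>
    rename_i u v w
    calc (dset G u w).card ≤ (dset G u v ∪ dset G v w).card :=
          Finset.card_le_card (dset_triangle u v w)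
      _ ≤ (dset G u v).card + (dset G v w).card := Finset.card_union_le _ _
      _ ≤ (dset G a₀ b₀).card + q.length * (dset G a₀ b₀).card := by
          rw [card_dset_adj hadj]
          omega
      _ = _ := by rw [SimpleGraph.Walk.length_cons]; ring

theorem card_dset_le_dist [MulAction.IsPreprimitive G Ω] {a₀ b₀ : Ω} (hab : a₀ ≠ b₀) (x y : Ω) :
    (dset G x y).card ≤ (ograph G a₀ b₀).dist x y * (dset G a₀ b₀).card := by
  obtain ⟨p, hp⟩ := (ograph_connected (G := G) hab).exists_walk_length_eq_dist x y
  rw [← hp]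
  exact card_dset_le_length p

theorem mem_dset_of_dist_ne [MulAction.IsPreprimitive G Ω] {a₀ b₀ : Ω} (hab : a₀ ≠ b₀) {x y z : Ω}
    (h : (ograph G a₀ b₀).dist x z ≠ (ograph G a₀ b₀).dist y z) : z ∈ dset G x y := by
  rw [mem_dset]
  rintro ⟨g, hx, hz⟩
  apply h
  have := ograph_dist_smul hab g x z
  rw [hx, hz] at this
  exact this.symm

/-- on a geodesic, the distance from the initial point is the index -/
theorem dist_getVert {V : Type*} {Γ : SimpleGraph V} (hc : Γ.Connected) {x y : V}
    (p : Γ.Walk x y) (hp : p.length = Γ.dist x y) {j : ℕ} (hj : j ≤ p.length) :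
    Γ.dist x (p.getVert j) = j := by
  have h1 : Γ.dist x (p.getVert j) ≤ (p.take j).length := SimpleGraph.dist_le _
  have h2 : Γ.dist (p.getVert j) y ≤ (p.drop j).length := SimpleGraph.dist_le _
  have h3 := hc.dist_triangle (u := x) (v := p.getVert j) (w := y)
  rw [SimpleGraph.Walk.take_length] at h1
  rw [SimpleGraph.Walk.drop_length] at h2
  omega

theorem dist_le_card_dset [MulAction.IsPreprimitive G Ω] {a₀ b₀ : Ω} (hab : a₀ ≠ b₀) (x y : Ω) :
    (ograph G a₀ b₀).dist x y ≤ (dset G a₀ b₀).card := by
  classical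
  have hc := ograph_connected (G := G) hab
  obtain ⟨p, hp⟩ := hc.exists_walk_length_eq_dist x y
  rcases Nat.eq_zero_or_pos p.length with h0 | h0
  · omega
  have hadj : (ograph G a₀ b₀).Adj x (p.getVert 1) := by
    have := p.adj_getVert_succ h0
    rwa [SimpleGraph.Walk.getVert_zero] at this
  rw [← card_dset_adj hadj, ← hp]
  calc p.length = (Finset.Icc 1 p.length).card := by simp
    _ ≤ (dset G x (p.getVert 1)).card := by
      refine Finset.card_le_card_of_injOn p.getVert ?_ ?_
      · intro j hj
        rw [Finset.mem_coe, Finset.mem_Icc] at hj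
        rw [Finset.mem_coe]
        refine mem_dset_of_dist_ne hab ?_
        rw [dist_getVert hc p hp hj.2]
        have h2 : (ograph G a₀ b₀).dist (p.getVert 1) (p.getVert j) ≤ j - 1 := by
          have hle := SimpleGraph.dist_le ((p.drop 1).take (j - 1))
          rw [SimpleGraph.Walk.take_length] at hle
          have e : (p.drop 1).getVert (j - 1) = p.getVert j := by
            rw [SimpleGraph.Walk.drop_getVert]
            congr 1
            omega
          rw [e] at hle
          omega
        omega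
      · intro i hi j hj hij
        rw [Finset.mem_coe, Finset.mem_Icc] at hi hj
        have := congrArg ((ograph G a₀ b₀).dist x) hij
        rwa [dist_getVert hc p hp hi.2, dist_getVert hc p hp hj.2] at this

theorem card_dset_le_sq [MulAction.IsPreprimitive G Ω] {a₀ b₀ : Ω} (hab : a₀ ≠ b₀) (x y : Ω) :
    (dset G x y).card ≤ (dset G a₀ b₀).card ^ 2 := by
  calc (dset G x y).card ≤ (ograph G a₀ b₀).dist x y * (dset G a₀ b₀).card :=
        card_dset_le_dist hab x y
    _ ≤ (dset G a₀ b₀).card * (dset G a₀ b₀).card := by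
        exact Nat.mul_le_mul_right _ (dist_le_card_dset hab x y)
    _ = _ := (sq _).symm

theorem card_univ_sub_one_le [MulAction.IsPreprimitive G Ω] {a₀ b₀ : Ω} (hab : a₀ ≠ b₀) (x : Ω)
    [Fintype ((ograph G a₀ b₀).neighborSet x)] :
    Fintype.card Ω - 1 ≤ ((ograph G a₀ b₀).neighborFinset x).card * (dset G a₀ b₀).card := by
  classical
  have hc := ograph_connected (G := G) hab
  calc Fintype.card Ω - 1 = ((Finset.univ : Finset Ω).erase x).card := by
        simp
    _ ≤ (((ograph G a₀ b₀).neighborFinset x).biUnion fun b => dset G x b).card := by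
        refine Finset.card_le_card fun z hz => ?_
        rw [Finset.mem_erase] at hz
        obtain ⟨p, hp⟩ := hc.exists_walk_length_eq_dist x z
        have h0 : 0 < p.length := by
          rw [hp]; exact hc.pos_dist_of_ne hz.1.symm
        have hadj : (ograph G a₀ b₀).Adj x (p.getVert 1) := by
          have := p.adj_getVert_succ h0
          rwa [SimpleGraph.Walk.getVert_zero] at this
        rw [Finset.mem_biUnion]
        refine ⟨p.getVert 1, by simpa using hadj, mem_dset_of_dist_ne hab ?_⟩
        have := SimpleGraph.dist_le (p.drop 1)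
        rw [SimpleGraph.Walk.drop_length] at this
        omega
    _ ≤ _ := by
        refine Finset.card_biUnion_le_card_mul _ _ _ fun b hb => ?_
        rw [SimpleGraph.mem_neighborFinset] at hb
        exact le_of_eq (card_dset_adj hb)

end Cfsg.Agent.MinimalDegree
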