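import Cfsg.Agent.Lib.MinimalDegree.Basic

set_option autoImplicit false

namespace Cfsg.Agent.MinimalDegree

open Finset

variable (G : Type*) {Ω : Type*} [Group G] [MulAction G Ω] [Fintype Ω]

open scoped Classical in
/-- moved points -/
noncomputable def moved (g : G) : Finset Ω := Finset.univ.filter fun x => g • x ≠ x

variable {G}

theorem mem_moved {g : G} {x : Ω} : x ∈ moved G g ↔ g • x ≠ x := by simp [moved]

theorem mem_moved_conj {g h : G} {x : Ω} :
    x ∈ moved G (h * g * h⁻¹) ↔ h⁻¹ • x ∈ moved G g := by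
  rw [mem_moved, mem_moved, mul_smul, mul_smul, not_iff_not]
  constructor
  · intro e
    have := congrArg (fun y => h⁻¹ • y) e
    simpa using this
  · intro e
    rw [e, smul_inv_smul]

theorem card_moved_conj (g h : G) :
    (moved (Ω := Ω) G (h * g * h⁻¹)).card = (moved (Ω := Ω) G g).card := by
  symm
  refine Finset.card_bij (fun z _ => h • z) ?_ (fun u _ v _ e => MulAction.injective h e) ?_
  · intro z hz
    rw [mem_moved_conj, inv_smul_smul]; exact hz
  · intro z hz
    exact ⟨h⁻¹ • z, mem_moved_conj.mp hz, smul_inv_smul h z⟩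

/-- the commutator of two elements moves at most three times their common moved points -/
theorem card_moved_commutator [DecidableEq Ω] (g k : G) :
    (moved (Ω := Ω) G (g * k * g⁻¹ * k⁻¹)).card ≤
      3 * (moved (Ω := Ω) G g ∩ moved G k).card := by
  set J := moved (Ω := Ω) G g ∩ moved G k with hJ
  have hsub : moved (Ω := Ω) G (g * k * g⁻¹ * k⁻¹) ⊆
      J ∪ J.image (g • ·) ∪ J.image (k • ·) := by
    intro x hx
    have h1 : x ∈ moved G k ∨ g⁻¹ • x ∈ moved G k := by
      by_contra hh
      push Not at hh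
      simp only [mem_moved, not_not] at hh
      rw [mem_moved] at hx
      apply hx
      have e1 : k⁻¹ • x = x := by
        conv_lhs => rw [← hh.1]
        rw [inv_smul_smul]
      rw [mul_smul, e1, mul_smul, mul_smul, hh.2, smul_inv_smul]
    have h2 : x ∈ moved G g ∨ k⁻¹ • x ∈ moved G g := by
      by_contra hh
      push Not at hh
      simp only [mem_moved, not_not] at hh
      rw [mem_moved] at hx
      apply hx
      have e1 : g⁻¹ • k⁻¹ • x = k⁻¹ • x := by
        conv_lhs => rw [← hh.2]
        rw [inv_smul_smul]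
      rw [mul_smul, mul_smul, mul_smul, e1, smul_inv_smul, hh.1]
    simp only [Finset.mem_union, Finset.mem_image]
    by_cases hk : x ∈ moved G k
    · by_cases hg : x ∈ moved G g
      · exact Or.inl (Or.inl (Finset.mem_inter.mpr ⟨hg, hk⟩))
      · refine Or.inr ⟨k⁻¹ • x, Finset.mem_inter.mpr ⟨h2.resolve_left hg, ?_⟩, smul_inv_smul k x⟩
        rw [mem_moved] at hk ⊢
        intro e
        apply hk
        rw [smul_inv_smul] at e
        conv_lhs => rw [e]
        rw [smul_inv_smul]
    · have hgi := h1.resolve_left hk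
      by_cases hgx : g⁻¹ • x = x
      · rw [hgx] at hgi; exact absurd hgi hk
      refine Or.inl (Or.inr ⟨g⁻¹ • x, Finset.mem_inter.mpr ⟨?_, hgi⟩, smul_inv_smul g x⟩)
      rw [mem_moved, smul_inv_smul]
      exact Ne.symm hgx
  calc (moved G (g * k * g⁻¹ * k⁻¹)).card ≤ (J ∪ J.image (g • ·) ∪ J.image (k • ·)).card :=
        Finset.card_le_card hsub
    _ ≤ J.card + (J.image (g • ·)).card + (J.image (k • ·)).card := by
        have := Finset.card_union_le (J ∪ J.image (g • ·)) (J.image (k • ·))
        have := Finset.card_union_le J (J.image (g • ·))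
        omega
    _ ≤ _ := by
        have := Finset.card_image_le (s := J) (f := (g • ·))
        have := Finset.card_image_le (s := J) (f := (k • ·))
        omega

/-- averaging over the conjugates of an element of minimal support in a 2-transitive group -/
theorem two_transitive_bound [Fintype G]
    (htwo : ∀ a b c d : Ω, a ≠ b → c ≠ d → SameOrbital G a b c d)
    (g : G) (hg : (moved (Ω := Ω) G g).Nonempty)
    (hmin : ∀ c : G, (moved (Ω := Ω) G c).Nonempty →
      (moved (Ω := Ω) G g).card ≤ (moved (Ω := Ω) G c).card) :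
    ((moved (Ω := Ω) G g).card : ℤ) * ((Fintype.card Ω : ℤ) - (moved (Ω := Ω) G g).card) ≤
      3 * ((Fintype.card Ω : ℤ) - 1) + 3 * (((moved (Ω := Ω) G g).card : ℤ) - 1) ^ 2 := by
  classical
  set S := moved (Ω := Ω) G g with hS
  set m := S.card with hm
  obtain ⟨a, ha⟩ := hg
  set b := g • a with hb
  have hab : a ≠ b := fun e => (mem_moved.mp ha) (by rw [← hb, ← e])
  have hbS : b ∈ S := by
    rw [hS, mem_moved]
    intro e
    exact hab (MulAction.injective g e).symm
  let Hx : Ω → Finset G := fun x => Finset.univ.filter fun h => h⁻¹ • x ∈ S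
  let Hxy : Ω → Ω → Finset G := fun x y => Hx x ∩ Hx y
  have hHx : ∀ x y : Ω, (Hx x).card = (Hx y).card := by
    intro x y
    obtain ⟨t, ht⟩ : ∃ t : G, t • x = y := by
      by_cases hxy : x = y
      · exact ⟨1, by rw [one_smul, hxy]⟩
      · obtain ⟨t, h1, -⟩ := htwo x y y x hxy (Ne.symm hxy)
        exact ⟨t, h1⟩
    refine Finset.card_bij (fun h _ => t * h) ?_ (fun u _ v _ e => mul_left_cancel e) ?_
    · intro h hh
      simp only [Hx, Finset.mem_filter, Finset.mem_univ, true_and] at hh ⊢
      rwa [mul_inv_rev, mul_smul, ← ht, inv_smul_smul]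
    · intro h hh
      refine ⟨t⁻¹ * h, ?_, mul_inv_cancel_left t h⟩
      simp only [Hx, Finset.mem_filter, Finset.mem_univ, true_and] at hh ⊢
      rwa [mul_inv_rev, inv_inv, mul_smul, ht]
  have hHxy : ∀ x y z w : Ω, x ≠ y → z ≠ w → (Hxy x y).card = (Hxy z w).card := by
    intro x y z w hxy hzw
    obtain ⟨t, h1, h2⟩ := htwo x y z w hxy hzw
    refine Finset.card_bij (fun h _ => t * h) ?_ (fun u _ v _ e => mul_left_cancel e) ?_
    · intro h hh
      simp only [Hxy, Hx, Finset.mem_inter, Finset.mem_filter, Finset.mem_univ, true_and] at hh ⊢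
      rw [mul_inv_rev, mul_smul, mul_smul, ← h1, ← h2, inv_smul_smul, inv_smul_smul]
      exact hh
    · intro h hh
      refine ⟨t⁻¹ * h, ?_, mul_inv_cancel_left t h⟩
      simp only [Hxy, Hx, Finset.mem_inter, Finset.mem_filter, Finset.mem_univ, true_and] at hh ⊢
      rw [mul_inv_rev, inv_inv, mul_smul, mul_smul, h1, h2]
      exact hh
  set A := (Hx a).card with hA
  set B := (Hxy a b).card with hB
  have hScard : ∀ h : G, (Finset.univ.filter fun x => h⁻¹ • x ∈ S).card = m := by
    intro h
    rw [hm, ← card_moved_conj g h]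
    congr 1
    ext x
    rw [mem_moved_conj]
    simp [hS]
  have hsum : ∀ (T : Finset G),
      ∑ x : Ω, (T ∩ Hx x).card = T.card * m := by
    intro T
    have h := Finset.sum_card_bipartiteAbove_eq_sum_card_bipartiteBelow
      (r := fun (h : G) (x : Ω) => h⁻¹ • x ∈ S) (s := T) (t := (Finset.univ : Finset Ω))
    rw [Finset.sum_congr rfl (g := fun _ => m) fun h _ => ?_, Finset.sum_const, smul_eq_mul] at h
    · rw [h]
      refine Finset.sum_congr rfl fun x _ => ?_
      congr 1
      ext h'
      simp [Hx, Finset.bipartiteBelow]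
    · exact hScard h
  have hA' : Fintype.card Ω * A = Fintype.card G * m := by
    have := hsum Finset.univ
    simp only [Finset.univ_inter, Finset.card_univ] at this
    rw [Finset.sum_congr rfl (fun x _ => hHx x a), Finset.sum_const, smul_eq_mul,
      Finset.card_univ] at this
    exact this
  have hB' : A + (Fintype.card Ω - 1) * B = A * m := by
    have h1 := hsum (Hx a)
    rw [← Finset.add_sum_erase _ _ (Finset.mem_univ a), Finset.inter_self] at h1
    rw [Finset.sum_congr rfl (g := fun _ => B) fun x hx =>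
      hHxy a x a b (Finset.ne_of_mem_erase hx).symm hab, Finset.sum_const, smul_eq_mul,
      Finset.card_erase_of_mem (Finset.mem_univ a), Finset.card_univ] at h1
    exact h1
  have hH0 : (Hx a \ Hx b).card + B = A := Finset.card_sdiff_add_card_inter _ _
  have hlow : ∀ h ∈ Hx a \ Hx b, m ≤ 3 * (S.filter fun x => h⁻¹ • x ∈ S).card := by
    intro h hh
    simp only [Hx, Finset.mem_sdiff, Finset.mem_filter, Finset.mem_univ, true_and] at hh
    set k := h * g * h⁻¹ with hk
    have hne : (moved (Ω := Ω) G (g * k * g⁻¹ * k⁻¹)).Nonempty := by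
      by_contra hempty
      rw [Finset.not_nonempty_iff_eq_empty, Finset.eq_empty_iff_forall_notMem] at hempty
      have h1 : (g * k * g⁻¹ * k⁻¹) • (k • g • a) = k • g • a := by
        have := hempty (k • g • a)
        rwa [mem_moved, not_not] at this
      have h2 : g • k • a = k • g • a := by
        rwa [← mul_smul (g * k * g⁻¹ * k⁻¹) k, inv_mul_cancel_right, ← mul_smul,
          inv_mul_cancel_right, mul_smul] at h1
      have h3 : k • b = b := by
        have := hh.2
        rw [← mem_moved_conj, mem_moved, not_not] at this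
        exact this
      rw [← hb, h3] at h2
      have h4 : k • a = a := MulAction.injective g h2
      have h5 : a ∈ moved G k := mem_moved_conj.mpr hh.1
      exact mem_moved.mp h5 h4
    refine le_trans (hmin _ hne) (le_trans (card_moved_commutator g k) ?_)
    refine Nat.mul_le_mul_left 3 (le_of_eq ?_)
    congr 1
    ext x
    simp only [Finset.mem_inter, Finset.mem_filter, hk, mem_moved_conj]
    rfl
  have hup : ∑ h ∈ Hx a, (S.filter fun x => h⁻¹ • x ∈ S).card = A + (m - 1) * B := by
    have h := Finset.sum_card_bipartiteAbove_eq_sum_card_bipartiteBelow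
      (r := fun (h : G) (x : Ω) => h⁻¹ • x ∈ S) (s := Hx a) (t := S)
    have e : ∀ x, (Hx a).bipartiteBelow (fun (h : G) (x : Ω) => h⁻¹ • x ∈ S) x = Hxy a x := by
      intro x
      ext h'
      simp [Hxy, Hx, Finset.bipartiteBelow]
    simp only [Finset.bipartiteAbove] at h
    rw [h, Finset.sum_congr rfl (fun x _ => congrArg Finset.card (e x)),
      ← Finset.add_sum_erase _ _ ha,
      Finset.sum_congr rfl (g := fun _ => B) fun x hx =>
        hHxy a x a b (Finset.ne_of_mem_erase hx).symm hab,
      Finset.sum_const, smul_eq_mul, Finset.card_erase_of_mem ha, ← hm]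
    simp [Hxy, hA]
  have hmain : m * (Hx a \ Hx b).card ≤ 3 * (A + (m - 1) * B) := by
    rw [← hup, Finset.mul_sum]
    calc m * (Hx a \ Hx b).card = ∑ _h ∈ Hx a \ Hx b, m := by simp [mul_comm]
      _ ≤ ∑ h ∈ Hx a \ Hx b, 3 * (S.filter fun x => h⁻¹ • x ∈ S).card := Finset.sum_le_sum hlow
      _ ≤ _ := Finset.sum_le_sum_of_subset Finset.sdiff_subset
  have hm1 : 1 ≤ m := Finset.card_pos.mpr ⟨a, ha⟩
  have hn1 : 1 ≤ Fintype.card Ω := Fintype.card_pos_iff.mpr ⟨a⟩
  have hApos : 0 < A := by
    have hGpos : 0 < Fintype.card G := Fintype.card_pos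
    rcases Nat.eq_zero_or_pos A with h0 | h0
    · rw [h0, mul_zero] at hA'
      have := Nat.mul_pos hGpos hm1
      omega
    · exact h0
  have zB : (A : ℤ) + ((Fintype.card Ω : ℤ) - 1) * B = A * m := by
    have : ((A + (Fintype.card Ω - 1) * B : ℕ) : ℤ) = ((A * m : ℕ) : ℤ) := by rw [hB']
    push_cast [Nat.cast_sub hn1] at this
    exact this
  have zmain : (m : ℤ) * ((A : ℤ) - B) ≤ 3 * ((A : ℤ) + ((m : ℤ) - 1) * B) := by
    have h1 : ((m * (Hx a \ Hx b).card : ℕ) : ℤ) ≤ ((3 * (A + (m - 1) * B) : ℕ) : ℤ) := by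
      exact_mod_cast hmain
    push_cast [Nat.cast_sub hm1] at h1
    have h2 : ((Hx a \ Hx b).card : ℤ) = A - B := by omega
    rw [h2] at h1
    exact h1
  have key : (A : ℤ) * ((m : ℤ) * ((Fintype.card Ω : ℤ) - m)) ≤
      A * (3 * ((Fintype.card Ω : ℤ) - 1) + 3 * ((m : ℤ) - 1) ^ 2) := by
    have h3 := mul_le_mul_of_nonneg_left zmain
      (show (0 : ℤ) ≤ (Fintype.card Ω : ℤ) - 1 by omega)
    linear_combination h3 + (3 * ((m : ℤ) - 1) + m) * zB
  exact le_of_mul_le_mul_left key (by exact_mod_cast hApos)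

end Cfsg.Agent.MinimalDegree
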