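import Cfsg.Agent.Lib.MinimalDegree.Basic

set_option autoImplicit false

namespace Cfsg.Agent.MinimalDegree

open Finset

variable (G : Type*) {Ω : Type*} [Group G] [MulAction G Ω] [Fintype Ω]

open scoped Classical in
/-- the suborbit of `x` belonging to the orbital of `(a, b)` -/
noncomputable def outN (a b x : Ω) : Finset Ω :=
  Finset.univ.filter fun z => SameOrbital G a b x z

variable {G}

theorem mem_outN {a b x z : Ω} : z ∈ outN G a b x ↔ SameOrbital G a b x z := by simp [outN]

theorem card_outN_smul (a b : Ω) (g : G) (x : Ω) :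
    (outN G a b (g • x)).card = (outN G a b x).card := by
  symm
  refine Finset.card_bij (fun z _ => g • z) ?_ (fun u _ v _ h => MulAction.injective g h) ?_
  · intro z hz
    rw [mem_outN] at hz ⊢
    exact (so_smul_iff g).mpr hz
  · intro w hw
    refine ⟨g⁻¹ • w, ?_, smul_inv_smul g w⟩
    rw [mem_outN] at hw ⊢
    rw [← so_smul_iff (G := G) g (x := x), smul_inv_smul]
    exact hw

theorem card_outN_eq [MulAction.IsPretransitive G Ω] (a b x y : Ω) :
    (outN G a b x).card = (outN G a b y).card := by
  obtain ⟨g, rfl⟩ := MulAction.exists_smul_eq G x y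
  exact (card_outN_smul a b g x).symm

theorem card_inN [MulAction.IsPretransitive G Ω] (a b : Ω) :
    (outN G b a b).card = (outN G a b a).card := by
  classical
  haveI : Nonempty Ω := ⟨a⟩
  have e1 : ∑ x : Ω, (outN G a b x).card = ∑ y : Ω, (outN G b a y).card := by
    have h := Finset.sum_card_bipartiteAbove_eq_sum_card_bipartiteBelow
      (r := fun x y => SameOrbital G a b x y) (s := (Finset.univ : Finset Ω))
      (t := (Finset.univ : Finset Ω))
    convert h using 2 with x _ y _
    · congr 1
    · congr 1; ext z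
      simp only [mem_outN, Finset.bipartiteBelow, Finset.mem_filter, Finset.mem_univ, true_and]
      exact ⟨so_swap, so_swap⟩
  rw [Finset.sum_congr rfl fun x _ => card_outN_eq a b x a,
    Finset.sum_congr rfl fun y _ => card_outN_eq b a y b] at e1
  simp only [Finset.sum_const, smul_eq_mul] at e1
  exact (Nat.eq_of_mul_eq_mul_left (Fintype.card_pos) e1).symm

/-- averaging: some pair is distinguished by many points -/
theorem exists_large_dset [MulAction.IsPretransitive G Ω] [Nonempty Ω] (ρ : ℕ) (hρ1 : 1 ≤ ρ)
    (hρ : ∀ x z : Ω, x ≠ z → (outN G x z x).card ≤ ρ) :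
    ∃ x y : Ω, Fintype.card Ω - ρ ≤ (dset G x y).card := by
  classical
  by_contra hcon
  push Not at hcon
  have key : ∀ x z : Ω, Fintype.card Ω - ρ ≤
      (Finset.univ.filter fun y => z ∈ dset G x y).card := by
    intro x z
    have hbad : (Finset.univ.filter fun y => z ∉ dset G x y).card ≤ ρ := by
      by_cases hxz : x = z
      · subst hxz
        refine le_trans (Finset.card_le_one.mpr ?_) hρ1
        intro y hy y' hy'
        simp only [Finset.mem_filter, mem_dset, not_not, Finset.mem_univ, true_and] at hy hy'
        obtain ⟨g, h1, h2⟩ := hy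
        obtain ⟨g', h1', h2'⟩ := hy'
        rw [h1.symm.trans h2, h1'.symm.trans h2']
      · refine le_trans (Finset.card_le_card ?_) (hρ z x (Ne.symm hxz))
        intro y hy
        simp only [Finset.mem_filter, mem_dset, not_not, Finset.mem_univ, true_and] at hy
        rw [mem_outN]
        exact so_swap hy
    have hsum := Finset.card_filter_add_card_filter_not
      (s := (Finset.univ : Finset Ω)) (fun y => z ∈ dset G x y)
    rw [Finset.card_univ] at hsum
    omega
  have hle : ∀ x : Ω, Fintype.card Ω * (Fintype.card Ω - ρ) ≤ ∑ y : Ω, (dset G x y).card := by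
    intro x
    have h := Finset.sum_card_bipartiteAbove_eq_sum_card_bipartiteBelow
      (r := fun z y => z ∈ dset G x y) (s := (Finset.univ : Finset Ω))
      (t := (Finset.univ : Finset Ω))
    have h1 : ∑ z : Ω, (Finset.univ.filter fun y => z ∈ dset G x y).card =
        ∑ y : Ω, (dset G x y).card := by
      convert h using 2 with a _ b _
      · rfl
      · congr 1; ext w; simp [Finset.bipartiteBelow]
    rw [← h1]
    calc Fintype.card Ω * (Fintype.card Ω - ρ)
        = ∑ _z : Ω, (Fintype.card Ω - ρ) := by simp
      _ ≤ _ := Finset.sum_le_sum fun z _ => key x z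
  obtain ⟨x⟩ := ‹Nonempty Ω›
  have hlt : ∑ y : Ω, (dset G x y).card < ∑ _y : Ω, (Fintype.card Ω - ρ) :=
    Finset.sum_lt_sum_of_nonempty Finset.univ_nonempty fun y _ => hcon x y
  simp only [Finset.sum_const, smul_eq_mul, Finset.card_univ] at hlt
  exact absurd (hle x) (not_le.mpr hlt)

variable [MulAction.IsPreprimitive G Ω]

/-- the main estimate in the uniprimitive case -/
theorem card_le_four_dset_sq
    (hnot : ¬ ∀ a b c d : Ω, a ≠ b → c ≠ d → SameOrbital G a b c d)
    {a b : Ω} (hab : a ≠ b) : Fintype.card Ω - 1 ≤ 4 * (dset G a b).card ^ 2 := by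
  classical
  haveI : Nonempty Ω := ⟨a⟩
  have hne : (Finset.univ.filter fun p : Ω × Ω => p.1 ≠ p.2).Nonempty :=
    ⟨(a, b), by simp [hab]⟩
  obtain ⟨⟨u, w⟩, huw', hmax⟩ := Finset.exists_max_image
    (Finset.univ.filter fun p : Ω × Ω => p.1 ≠ p.2)
    (fun p => (outN G p.1 p.2 p.1).card) hne
  have huw : u ≠ w := by simpa using huw'
  set ρ := (outN G u w u).card with hρdef
  have hρmax : ∀ x z : Ω, x ≠ z → (outN G x z x).card ≤ ρ :=
    fun x z h => hmax (x, z) (by simpa using h)
  have hρ1 : 1 ≤ ρ := Finset.card_pos.mpr ⟨w, mem_outN.mpr (so_refl u w)⟩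
  have hρn : ∀ x : Ω, outN G u w x ⊆ (Finset.univ : Finset Ω).erase x := by
    intro x z hz
    rw [mem_outN] at hz
    rw [Finset.mem_erase]
    refine ⟨?_, Finset.mem_univ _⟩
    rintro rfl
    obtain ⟨g, h1, h2⟩ := hz
    exact huw (MulAction.injective g (h1.trans h2.symm))
  have hρle : ρ ≤ Fintype.card Ω - 1 := by
    have := Finset.card_le_card (hρn u)
    simpa using this
  set n := Fintype.card Ω with hn
  set σ := n - 1 - ρ with hσ
  set d := (dset G a b).card with hd
  obtain ⟨x0, y0, hbig⟩ := exists_large_dset (G := G) ρ hρ1 hρmax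
  have hsq : n - ρ ≤ d ^ 2 := le_trans hbig (card_dset_le_sq hab x0 y0)
  rcases Nat.lt_or_ge ρ (2 * σ + 1) with hcase | hcase
  · have : n - 1 ≤ 3 * (n - ρ) := by omega
    omega
  -- the dominant colour is symmetric
  have hsymm : SameOrbital G u w w u := by
    have h1 : (outN G u w u).card = ρ := rfl
    have h2 : (outN G w u u).card = ρ := by
      rw [card_outN_eq w u u w, card_inN u w]
    by_contra hns
    have hdisj : Disjoint (outN G u w u) (outN G w u u) := by
      rw [Finset.disjoint_left]
      intro z hz hz'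
      rw [mem_outN] at hz hz'
      exact hns (so_trans hz (so_symm hz'))
    have hsub : outN G u w u ∪ outN G w u u ⊆ (Finset.univ : Finset Ω).erase u := by
      refine Finset.union_subset (hρn u) ?_
      intro z hz
      rw [mem_outN] at hz
      rw [Finset.mem_erase]
      refine ⟨?_, Finset.mem_univ _⟩
      rintro rfl
      obtain ⟨g, h1, h2⟩ := hz
      exact huw (MulAction.injective g (h2.trans h1.symm))
    have := Finset.card_le_card hsub
    rw [Finset.card_union_of_disjoint hdisj, h1, h2, Finset.card_erase_of_mem (Finset.mem_univ u),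
      Finset.card_univ] at this
    omega
  let R : Ω → Ω → Prop := fun x y => SameOrbital G u w x y
  have hRsymm : ∀ {x y}, R x y → R y x := fun h => so_trans hsymm (so_swap h)
  have hRne : ∀ {x y}, R x y → x ≠ y := by
    intro x y h e
    subst e
    obtain ⟨g, h1, h2⟩ := h
    exact huw (MulAction.injective g (h1.trans h2.symm))
  let N : Ω → Finset Ω := fun x => Finset.univ.filter fun z => x ≠ z ∧ ¬ R x z
  have hNcard : ∀ x, (N x).card = σ := by
    intro x
    have hunion : N x ∪ outN G u w x = (Finset.univ : Finset Ω).erase x := by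
      ext z
      simp only [N, Finset.mem_union, Finset.mem_filter, Finset.mem_univ, true_and, mem_outN,
        Finset.mem_erase, and_true]
      constructor
      · rintro (h | h)
        · exact h.1.symm
        · exact fun e => hRne h e.symm
      · intro h
        by_cases hR : R x z
        · exact Or.inr hR
        · exact Or.inl ⟨Ne.symm h, hR⟩
    have hdisj : Disjoint (N x) (outN G u w x) := by
      rw [Finset.disjoint_left]
      intro z hz hz'
      simp only [N, Finset.mem_filter, Finset.mem_univ, true_and] at hz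
      exact hz.2 (mem_outN.mp hz')
    have := Finset.card_union_of_disjoint hdisj
    rw [hunion, Finset.card_erase_of_mem (Finset.mem_univ x), Finset.card_univ,
      card_outN_eq u w x u] at this
    omega
  have hNmem : ∀ {x z}, z ∈ N x ↔ x ≠ z ∧ ¬ R x z := by
    intro x z; simp [N]
  have hNsymm : ∀ {x z}, z ∈ N x → x ∈ N z := by
    intro x z h
    rw [hNmem] at h ⊢
    exact ⟨h.1.symm, fun h' => h.2 (hRsymm h')⟩
  have hNsmul : ∀ (g : G) (x z : Ω), g • z ∈ N (g • x) ↔ z ∈ N x := by
    intro g x z
    rw [hNmem, hNmem]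
    have h1 : g • x ≠ g • z ↔ x ≠ z := (MulAction.injective g).ne_iff
    have h2 : R (g • x) (g • z) ↔ R x z := so_smul_iff g
    rw [h1, h2]
  set lam := (N u ∩ N w).card with hlam
  have hlam' : ∀ x y, R x y → (N x ∩ N y).card = lam := by
    intro x y hxy
    obtain ⟨g, rfl, rfl⟩ := hxy
    symm
    refine Finset.card_bij (fun z _ => g • z) ?_ (fun p _ q _ h => MulAction.injective g h) ?_
    · intro z hz
      rw [Finset.mem_inter] at hz ⊢
      exact ⟨(hNsmul g u z).mpr hz.1, (hNsmul g w z).mpr hz.2⟩
    · intro z hz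
      rw [Finset.mem_inter] at hz
      refine ⟨g⁻¹ • z, ?_, smul_inv_smul g z⟩
      rw [Finset.mem_inter, ← hNsmul g u, ← hNsmul g w, smul_inv_smul]
      exact hz
  have hcount : ρ * lam ≤ σ * (σ - 1) := by
    have h := Finset.sum_card_bipartiteAbove_eq_sum_card_bipartiteBelow
      (r := fun y z => z ∈ N y) (s := outN G u w u) (t := N u)
    have h1 : ∀ y ∈ outN G u w u,
        ((N u).bipartiteAbove (fun y z => z ∈ N y) y).card = lam := by
      intro y hy
      rw [← hlam' u y (mem_outN.mp hy)]
      rw [← Finset.filter_mem_eq_inter]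
      rfl
    rw [Finset.sum_congr rfl h1, Finset.sum_const, smul_eq_mul] at h
    rw [h]
    calc ∑ z ∈ N u, ((outN G u w u).bipartiteBelow (fun y z => z ∈ N y) z).card
        ≤ ∑ z ∈ N u, (σ - 1) := by
          refine Finset.sum_le_sum fun z hz => ?_
          have hsub : (outN G u w u).bipartiteBelow (fun y z => z ∈ N y) z ⊆ (N z).erase u := by
            intro y hy
            simp only [Finset.bipartiteBelow, Finset.mem_filter, mem_outN] at hy
            rw [Finset.mem_erase]
            exact ⟨fun e => hRne hy.1 e.symm, hNsymm hy.2⟩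
          have := Finset.card_le_card hsub
          rw [Finset.card_erase_of_mem (hNsymm hz), hNcard] at this
          exact this
      _ = σ * (σ - 1) := by simp [hNcard]
  have hlam_half : 2 * lam ≤ σ := by
    by_contra hh
    push Not at hh
    nlinarith [Nat.sub_le σ 1, Nat.mul_le_mul_left σ (Nat.sub_le σ 1),
      Nat.mul_le_mul_right lam hcase]
  have hD1 : ∀ x y, R x y → σ + 2 ≤ (dset G x y).card := by
    intro x y hxy
    have hsub : ({x, y} : Finset Ω) ∪ (N x \ N y ∪ N y \ N x) ⊆ dset G x y := by
      intro z hz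
      rw [mem_dset]
      intro hso
      have hiff : R x z ↔ R y z := ⟨fun h => so_trans h hso, fun h => so_trans h (so_symm hso)⟩
      simp only [Finset.mem_union, Finset.mem_insert, Finset.mem_singleton, Finset.mem_sdiff,
        hNmem] at hz
      have hxx : ∀ v, ¬ R v v := fun v h => hRne h rfl
      rcases hz with (rfl | rfl) | ⟨h1, h2⟩ | ⟨h1, h2⟩
      · exact hxx z (hiff.mpr (hRsymm hxy))
      · exact hxx z (hiff.mp hxy)
      · by_cases hyz : y = z
        · subst hyz; exact h1.2 hxy
        · exact h2 ⟨hyz, fun h => h1.2 (hiff.mpr h)⟩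
      · by_cases hxz : x = z
        · subst hxz; exact h1.2 (hRsymm hxy)
        · exact h2 ⟨hxz, fun h => h1.2 (hiff.mp h)⟩
    have hdis : Disjoint ({x, y} : Finset Ω) (N x \ N y ∪ N y \ N x) := by
      rw [Finset.disjoint_left]
      intro z hz hz'
      simp only [Finset.mem_insert, Finset.mem_singleton] at hz
      simp only [Finset.mem_union, Finset.mem_sdiff, hNmem] at hz'
      rcases hz with rfl | rfl
      · rcases hz' with ⟨h, _⟩ | ⟨h, _⟩
        · exact h.1 rfl
        · exact h.2 (hRsymm hxy)
      · rcases hz' with ⟨h, _⟩ | ⟨h, _⟩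
        · exact h.2 hxy
        · exact h.1 rfl
    have := Finset.card_le_card hsub
    rw [Finset.card_union_of_disjoint hdis, Finset.card_pair (hRne hxy),
      Finset.card_union_of_disjoint disjoint_sdiff_sdiff] at this
    have e1 := Finset.card_sdiff_add_card_inter (N x) (N y)
    have e2 := Finset.card_sdiff_add_card_inter (N y) (N x)
    rw [hNcard, hlam' x y hxy] at e1
    rw [hNcard, Finset.inter_comm, hlam' x y hxy] at e2
    omega
  -- a colour different from the dominant one
  obtain ⟨c, e, hce, hnR⟩ : ∃ c e, c ≠ e ∧ ¬ R c e := by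
    by_contra hh
    push Not at hh
    exact hnot fun p q r s hpq hrs => so_trans (so_symm (hh p q hpq)) (hh r s hrs)
  -- geodesic to a point of the dominant colour in the graph of a non-dominant colour
  have hgeo : ∀ c e, c ≠ e → ¬ R c e →
      ∃ z, R u z ∧ 2 ≤ (ograph G c e).dist u z ∧ (∃ v, v ∈ N u ∧ v ∈ N z) ∧
        (∀ v, (ograph G c e).dist u v < (ograph G c e).dist u z → v = u ∨ v ∈ N u) := by
    intro c e hce hnR
    have hconn := ograph_connected (G := G) hce
    obtain ⟨z, hz, hzmin⟩ := Finset.exists_min_image (outN G u w u)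
      (fun z => (ograph G c e).dist u z) ⟨w, mem_outN.mpr (so_refl u w)⟩
    have hzR : R u z := mem_outN.mp hz
    have hadjN : ∀ p q, (ograph G c e).Adj p q → q ∈ N p := by
      intro p q hpq
      rw [hNmem]
      refine ⟨hpq.1, fun h => ?_⟩
      rcases hpq.2 with h' | h'
      · exact hnR (so_trans h (so_symm h'))
      · exact hnR (so_trans (hRsymm h) (so_symm h'))
    have hlow : ∀ v, (ograph G c e).dist u v < (ograph G c e).dist u z → v = u ∨ v ∈ N u := by
      intro v hv
      by_cases hvu : v = u
      · exact Or.inl hvu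
      refine Or.inr (hNmem.mpr ⟨Ne.symm hvu, fun h => ?_⟩)
      have := hzmin v (mem_outN.mpr h)
      omega
    obtain ⟨p, hp⟩ := hconn.exists_walk_length_eq_dist u z
    have h1 : 2 ≤ p.length := by
      have h0 : 0 < (ograph G c e).dist u z := hconn.pos_dist_of_ne (hRne hzR)
      by_contra hlt
      push Not at hlt
      have hadj := p.adj_getVert_succ (i := 0) (by omega)
      rw [SimpleGraph.Walk.getVert_zero,
        show (0 + 1 : ℕ) = p.length by omega, SimpleGraph.Walk.getVert_length] at hadj
      exact (hNmem.mp (hadjN _ _ hadj)).2 hzR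
    refine ⟨z, hzR, hp ▸ h1, ⟨p.getVert (p.length - 1), ?_, ?_⟩, hlow⟩
    · rcases hlow (p.getVert (p.length - 1)) (by
        rw [dist_getVert hconn p hp (by omega)]; omega) with h | h
      · exfalso
        have := dist_getVert hconn p hp (show p.length - 1 ≤ p.length by omega)
        rw [h, SimpleGraph.dist_self] at this
        omega
      · exact h
    · have hadj := p.adj_getVert_succ (i := p.length - 1) (by omega)
      rw [show p.length - 1 + 1 = p.length by omega, SimpleGraph.Walk.getVert_length] at hadj
      exact hNsymm (hadjN _ _ hadj)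
  obtain ⟨z, hzR, -, ⟨v, hv1, hv2⟩, -⟩ := hgeo c e hce hnR
  have hlam1 : 1 ≤ lam := by
    rw [← hlam' u z hzR]
    exact Finset.card_pos.mpr ⟨v, Finset.mem_inter.mpr ⟨hv1, hv2⟩⟩
  have hn1 : n - 1 ≤ σ * σ := by
    have hρσ : ρ ≤ σ * (σ - 1) := le_trans (Nat.le_mul_of_pos_right _ hlam1) hcount
    rcases Nat.eq_zero_or_pos σ with h0 | h0
    · rw [h0] at hρσ; omega
    · have : σ * (σ - 1) + σ = σ * σ := by
        rw [← Nat.mul_succ]; congr 1; omega
      omega
  by_cases hRab : R a b
  · have := hD1 a b hRab
    nlinarith [this, hn1]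
  -- the general colour
  obtain ⟨z, hzR, hk2, -, hlow⟩ := hgeo a b hab hRab
  have hconn := ograph_connected (G := G) hab
  set k := (ograph G a b).dist u z with hk
  have hA : σ + 2 ≤ k * d := le_trans (hD1 u z hzR) (card_dset_le_dist hab u z)
  have hB : n - 1 ≤ ((ograph G a b).neighborFinset u).card * d := card_univ_sub_one_le hab u
  set ν := ((ograph G a b).neighborFinset u).card with hν
  have hνall : ∀ x, ((ograph G a b).neighborFinset x).card = ν := by
    intro x
    obtain ⟨g, rfl⟩ := MulAction.exists_smul_eq G u x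
    symm
    refine Finset.card_bij (fun q _ => g • q) ?_ (fun p _ q _ h => MulAction.injective g h) ?_
    · intro q hq
      rw [SimpleGraph.mem_neighborFinset] at hq ⊢
      exact ograph_adj_smul a b g hq
    · intro q hq
      rw [SimpleGraph.mem_neighborFinset] at hq
      refine ⟨g⁻¹ • q, ?_, smul_inv_smul g q⟩
      rw [SimpleGraph.mem_neighborFinset]
      have := ograph_adj_smul a b g⁻¹ hq
      rwa [inv_smul_smul] at this
  have hC : k * ν ≤ 4 * (σ + 1) := by
    obtain ⟨p, hp⟩ := hconn.exists_walk_length_eq_dist u z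
    let T := Finset.range ((k - 2) / 3 + 1)
    have hcardU : (T.biUnion fun t => (ograph G a b).neighborFinset (p.getVert (3 * t))).card =
        ((k - 2) / 3 + 1) * ν := by
      rw [Finset.card_biUnion]
      · simp [T, hνall]
      · intro i hi j hj hij
        simp only [T, Finset.coe_range, Set.mem_Iio] at hi hj
        rw [Function.onFun, Finset.disjoint_left]
        intro q hq1 hq2
        rw [SimpleGraph.mem_neighborFinset] at hq1 hq2
        have hdi := dist_getVert hconn p hp (show 3 * i ≤ p.length by omega)
        have hdj := dist_getVert hconn p hp (show 3 * j ≤ p.length by omega)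
        have t1 := hconn.dist_triangle (u := u) (v := p.getVert (3 * i)) (w := q)
        have t2 := hconn.dist_triangle (u := u) (v := q) (w := p.getVert (3 * i))
        have t3 := hconn.dist_triangle (u := u) (v := p.getVert (3 * j)) (w := q)
        have t4 := hconn.dist_triangle (u := u) (v := q) (w := p.getVert (3 * j))
        rw [SimpleGraph.dist_eq_one_iff_adj.mpr hq1] at t1
        rw [SimpleGraph.dist_eq_one_iff_adj.mpr hq1.symm] at t2
        rw [SimpleGraph.dist_eq_one_iff_adj.mpr hq2] at t3
        rw [SimpleGraph.dist_eq_one_iff_adj.mpr hq2.symm] at t4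
        rw [hdi] at t1 t2
        rw [hdj] at t3 t4
        omega
    have hsub : (T.biUnion fun t => (ograph G a b).neighborFinset (p.getVert (3 * t))) ⊆
        insert u (N u) := by
      intro q hq
      simp only [T, Finset.mem_biUnion, Finset.mem_range, SimpleGraph.mem_neighborFinset] at hq
      obtain ⟨t, ht, hq⟩ := hq
      have hdi := dist_getVert hconn p hp (show 3 * t ≤ p.length by omega)
      have t1 := hconn.dist_triangle (u := u) (v := p.getVert (3 * t)) (w := q)
      rw [SimpleGraph.dist_eq_one_iff_adj.mpr hq, hdi] at t1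
      rcases hlow q (by omega) with h | h
      · subst h; exact Finset.mem_insert_self _ _
      · exact Finset.mem_insert_of_mem h
    have h1 := Finset.card_le_card hsub
    have h2 := Finset.card_insert_le u (N u)
    rw [hcardU] at h1
    rw [hNcard] at h2
    calc k * ν ≤ 4 * ((k - 2) / 3 + 1) * ν := Nat.mul_le_mul_right _ (by omega)
      _ = 4 * (((k - 2) / 3 + 1) * ν) := by ring
      _ ≤ _ := by omega
  have key : (n - 1) * (σ + 2) ≤ (4 * d ^ 2) * (σ + 2) := by
    calc (n - 1) * (σ + 2) ≤ (ν * d) * (k * d) := Nat.mul_le_mul hB hA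
      _ = (k * ν) * d ^ 2 := by ring
      _ ≤ (4 * (σ + 1)) * d ^ 2 := Nat.mul_le_mul_right _ hC
      _ ≤ _ := by
        have : σ + 1 ≤ σ + 2 := by omega
        calc 4 * (σ + 1) * d ^ 2 = 4 * d ^ 2 * (σ + 1) := by ring
          _ ≤ 4 * d ^ 2 * (σ + 2) := Nat.mul_le_mul_left _ this
  exact Nat.le_of_mul_le_mul_right key (by omega)

end Cfsg.Agent.MinimalDegree
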